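import Mathlib.Algebra.Homology.DerivedCategory.Fractions
import Mathlib.Algebra.Homology.DerivedCategory.TStructure
import Mathlib.Algebra.Homology.HomologicalComplexAbelian
import Mathlib.Data.Countable.Basic
import Mathlib.Data.Int.Interval

/-! Countability of the bounded derived category. -/

set_option autoImplicit false
set_option linter.style.haveILetI false

universe w v u

open CategoryTheory CategoryTheory.Limits

namespace Groth.Agent.Count43

variable {A : Type u} [Category.{v} A] [Abelian A]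

/-- Complexes concentrated in `[a, b]`. -/
def Conc (a b : ℤ) (K : CochainComplex A ℤ) : Prop := ∀ i, (i < a ∨ b < i) → IsZero (K.X i)

theorem conc_iff (a b : ℤ) (K : CochainComplex A ℤ) :
    Conc a b K ↔ K.IsStrictlyGE a ∧ K.IsStrictlyLE b := by
  rw [CochainComplex.isStrictlyGE_iff, CochainComplex.isStrictlyLE_iff]
  exact ⟨fun h => ⟨fun i hi => h i (Or.inl hi), fun i hi => h i (Or.inr hi)⟩,
    fun h i hi => hi.elim (fun h0 => h.1 i h0) (fun h0 => h.2 i h0)⟩

variable (hhom : ∀ X Y : A, Countable (X ⟶ Y))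

include hhom in
theorem countable_cx_hom (a b : ℤ) (K L : CochainComplex A ℤ) (hK : Conc a b K) : Countable (K ⟶ L) := by
  refine Function.Injective.countable
    (f := fun (f : K ⟶ L) (i : Finset.Icc a b) => f.f i.1) fun f g h => ?_
  refine HomologicalComplex.hom_ext _ _ fun i => ?_
  by_cases hi : i ∈ Finset.Icc a b
  · exact congr_fun h ⟨i, hi⟩
  · rw [Finset.mem_Icc] at hi
    exact (hK i (by omega)).eq_of_src _ _

variable (e : ℕ → A) (he : ∀ X : A, ∃ n : ℕ, Nonempty (X ≅ e n))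

/-- Codes of the differentials of complexes concentrated in `[a, b]`. -/
abbrev Code (a b : ℤ) : Type v := Finset.Icc a b → (Σ n m : ℕ, (e n ⟶ e m))

include he hhom in
theorem exists_countable_classes (a b : ℤ) :
    ∃ (ι : Type v) (_ : Countable ι) (K : ι → CochainComplex A ℤ),
      (∀ j, Conc a b (K j)) ∧ ∀ L, Conc a b L → ∃ j, Nonempty (L ≅ K j) := by
  classical
  haveI : ∀ n m : ℕ, Countable (e n ⟶ e m) := fun n m => hhom _ _
  choose num hnum using he
  let φ : ∀ X : A, X ≅ e (num X) := fun X => (hnum X).some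
  let code : CochainComplex A ℤ → Code e a b := fun L i =>
    ⟨num (L.X i.1), num (L.X (i.1 + 1)), (φ _).inv ≫ L.d i.1 (i.1 + 1) ≫ (φ _).hom⟩
  let ι := {c : Code e a b // ∃ L, Conc a b L ∧ code L = c}
  refine ⟨ι, inferInstance, fun j => j.2.choose, fun j => j.2.choose_spec.1, fun L hL => ?_⟩
  let j : ι := ⟨code L, L, hL, rfl⟩
  let L' := j.2.choose
  have hL' : Conc a b L' := j.2.choose_spec.1
  have hc : code L' = code L := j.2.choose_spec.2
  refine ⟨j, ⟨?_⟩⟩
  have hn : ∀ i, i ∈ Finset.Icc a b → num (L'.X i) = num (L.X i) := fun i hi =>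
    congrArg Sigma.fst (congr_fun hc ⟨i, hi⟩)
  let θ : ∀ i, L.X i ≅ L'.X i := fun i =>
    if hi : i ∈ Finset.Icc a b then φ _ ≪≫ eqToIso (congrArg e (hn i hi).symm) ≪≫ (φ _).symm
    else (hL i (by rw [Finset.mem_Icc] at hi; omega)).iso (hL' i (by rw [Finset.mem_Icc] at hi; omega))
  refine HomologicalComplex.Hom.isoOfComponents θ ?_
  rintro i j rfl
  by_cases hi : i ∈ Finset.Icc a b
  · by_cases hi' : i + 1 ∈ Finset.Icc a b
    · have h := congr_fun hc ⟨i, hi⟩
      have key : ∀ (n n' m m' : ℕ) (f : e n ⟶ e m) (g : e n' ⟶ e m')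
          (_ : (⟨n, m, f⟩ : Σ n m : ℕ, (e n ⟶ e m)) = ⟨n', m', g⟩) (h₁ : n' = n) (h₂ : m' = m),
          eqToHom (congrArg e h₁) ≫ f = g ≫ eqToHom (congrArg e h₂) := by
        intro n n' m m' f g h h₁ h₂
        subst h₁ h₂
        simp only [Sigma.mk.injEq, heq_eq_eq, true_and] at h
        simp [h]
      have h' := key _ _ _ _ _ _ h (hn i hi).symm (hn _ hi').symm
      simp only [θ, dif_pos hi, dif_pos hi', Iso.trans_hom, eqToIso.hom, Iso.symm_hom, Category.assoc]
      rw [← cancel_mono (φ (L'.X (i + 1))).hom, ← cancel_epi (φ (L.X i)).inv]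
      simpa using h'
    · exact ((hL' (i + 1) (by rw [Finset.mem_Icc] at hi'; omega))).eq_of_tgt _ _
  · exact (hL i (by rw [Finset.mem_Icc] at hi; omega)).eq_of_src _ _

variable [HasDerivedCategory.{w} A]

theorem exists_conc_rep (K : DerivedCategory.Bounded A) :
    ∃ (a b : ℤ) (L : CochainComplex A ℤ), Conc a b L ∧ Nonempty (K.obj ≅ DerivedCategory.Q.obj L) := by
  obtain ⟨⟨a, ha⟩, ⟨b, hb⟩⟩ := K.property
  obtain ⟨P, hP, ⟨eP⟩⟩ := DerivedCategory.exists_iso_Q_obj_of_isGE K.obj a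
  haveI : P.IsLE b := (DerivedCategory.isLE_Q_obj_iff P b).1
    (DerivedCategory.TStructure.t.isLE_of_iso eP b)
  exact ⟨a, b, P.truncLE b, (conc_iff a b _).2 ⟨inferInstance, inferInstance⟩,
    ⟨eP ≪≫ (asIso (DerivedCategory.Q.map (P.ιTruncLE b))).symm⟩⟩

theorem conc_mono {a b a' b' : ℤ} {L : CochainComplex A ℤ} (h : Conc a b L) (ha : a' ≤ a) (hb : b ≤ b') :
    Conc a' b' L := fun i hi => h i (by omega)

include hhom he in
theorem countable_Q_hom (a b : ℤ) (K L : CochainComplex A ℤ) (hK : Conc a b K) (hL : Conc a b L) :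
    Countable (DerivedCategory.Q.obj K ⟶ DerivedCategory.Q.obj L) := by
  obtain ⟨hKa, hKb⟩ := (conc_iff a b K).1 hK
  obtain ⟨hLa, hLb⟩ := (conc_iff a b L).1 hL
  obtain ⟨ι, hι, R, hR, hall⟩ := exists_countable_classes hhom e he a b
  haveI : ∀ j, Countable {s : R j ⟶ K // IsIso (DerivedCategory.Q.map s)} := fun j =>
    haveI := countable_cx_hom hhom a b (R j) K (hR j)
    inferInstance
  haveI : ∀ j, Countable (R j ⟶ L) := fun j => countable_cx_hom hhom a b (R j) L (hR j)
  refine Function.Surjective.countable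
    (f := fun d : Σ j, {s : R j ⟶ K // IsIso (DerivedCategory.Q.map s)} × (R j ⟶ L) =>
      haveI := d.2.1.2
      inv (DerivedCategory.Q.map d.2.1.1) ≫ DerivedCategory.Q.map d.2.2) fun f => ?_
  obtain ⟨X', hXa, hXb, s, hs, g, rfl⟩ := DerivedCategory.right_fac_of_isStrictlyLE_of_isStrictlyGE a b f
  obtain ⟨j, ⟨θ⟩⟩ := hall X' ((conc_iff a b X').2 ⟨hXa, hXb⟩)
  haveI := hs
  refine ⟨⟨j, ⟨θ.inv ≫ s, by rw [Functor.map_comp]; infer_instance⟩, θ.inv ≫ g⟩, ?_⟩
  simp

include hhom he in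
theorem countable_bounded :
    (∀ K L : DerivedCategory.Bounded A, Countable (K ⟶ L)) ∧
      ∃ e' : ℕ → DerivedCategory.Bounded A, ∀ K : DerivedCategory.Bounded A,
        ∃ n : ℕ, Nonempty (K ≅ e' n) := by
  classical
  constructor
  · intro K L
    obtain ⟨a, b, P, hP, ⟨eP⟩⟩ := exists_conc_rep K
    obtain ⟨a', b', Q', hQ, ⟨eQ⟩⟩ := exists_conc_rep L
    haveI := countable_Q_hom hhom e he (min a a') (max b b') P Q'
      (conc_mono hP (by omega) (by omega)) (conc_mono hQ (by omega) (by omega))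
    refine Function.Injective.countable
      (f := fun f : K ⟶ L => eP.inv ≫ DerivedCategory.Bounded.ι.map f ≫ eQ.hom) fun f g h => ?_
    exact ObjectProperty.hom_ext _ (by simpa using h)
  · choose ι hι R hR hall using exists_countable_classes hhom e he
    let T := {d : Σ a b : ℤ, ι a b // ∃ K : DerivedCategory.Bounded A,
      Nonempty (K.obj ≅ DerivedCategory.Q.obj (R d.1 d.2.1 d.2.2))}
    haveI : ∀ a b, Countable (ι a b) := hι
    have hK : ∀ K : DerivedCategory.Bounded A, ∃ d : T,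
        Nonempty (K ≅ d.2.choose) := fun K => by
      obtain ⟨a, b, P, hP, ⟨eP⟩⟩ := exists_conc_rep K
      obtain ⟨j, ⟨θ⟩⟩ := hall a b P hP
      let d : T := ⟨⟨a, b, j⟩, K, ⟨eP ≪≫ DerivedCategory.Q.mapIso θ⟩⟩
      exact ⟨d, ⟨DerivedCategory.Bounded.ι.preimageIso
        (eP ≪≫ DerivedCategory.Q.mapIso θ ≪≫ d.2.choose_spec.some.symm)⟩⟩
    by_cases hne : Nonempty T
    · obtain ⟨g, hg⟩ := exists_surjective_nat T
      exact ⟨fun n => (g n).2.choose, fun K => by
        obtain ⟨d, hd⟩ := hK K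
        obtain ⟨n, rfl⟩ := hg d
        exact ⟨n, hd⟩⟩
    · exact (hne ⟨(hK ⟨(DerivedCategory.singleFunctor A 0).obj (e 0), ⟨⟨0, inferInstance⟩, ⟨0, inferInstance⟩⟩⟩).choose⟩).elim

end Groth.Agent.Count43
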